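import Groth.Agent.PerfModelLib.Tower
import Groth.Agent.ApproxZLib.Absolute

/-! A finitely presented model of a compact perfect scheme. -/

set_option autoImplicit false
set_option backward.isDefEq.respectTransparency false
set_option backward.defeqAttrib.useBackward true
set_option linter.style.haveILetI false
set_option linter.unusedSectionVars false

universe u

open CategoryTheory CategoryTheory.Limits AlgebraicGeometry Opposite

noncomputable section

namespace Groth.Agent.PerfModelLib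

variable (p : ℕ) [Fact p.Prime]

/-- Hom to `Spec 𝔽_p` from a scheme of characteristic `p`. -/
theorem exists_toSpec (X : Scheme.{u}) [FrobSch.IsCharP X p] :
    Nonempty (X ⟶ Spec (CommRingCat.of (ULift.{u} (ZMod p)))) := by
  let φ : ZMod p →+* Γ(X, ⊤) :=
    (Ideal.Quotient.lift (Ideal.span {(p : ℤ)}) (Int.castRingHom Γ(X, ⊤)) (fun a ha => by
      obtain ⟨b, rfl⟩ := Ideal.mem_span_singleton.1 ha
      rw [map_mul, show Int.castRingHom Γ(X, ⊤) (p : ℤ) = 0 from (Int.cast_natCast p).trans (FrobSch.natCast_eq_zero_app X p ⊤),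
        zero_mul])).comp (Int.quotientSpanNatEquivZMod p).symm.toRingHom
  exact ⟨X.toSpecΓ ≫ Spec.map (CommRingCat.ofHom (φ.comp ULift.ringEquiv.toRingHom))⟩

/-- The inclusion of `Spec 𝔽_p` into `Spec ℤ`. -/
def iF : Spec (CommRingCat.of (ULift.{u} (ZMod p))) ⟶ Spec (CommRingCat.of (ULift.{u} ℤ)) :=
  Spec.map (CommRingCat.ofHom ((ULift.ringEquiv.symm.toRingHom.comp (Int.castRingHom (ZMod p))).comp ULift.ringEquiv.toRingHom))

instance isClosedImmersion_iF : IsClosedImmersion (iF.{u} p) :=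
  IsClosedImmersion.spec_of_surjective _ fun x => by
    obtain ⟨a, ha⟩ := ZMod.intCast_surjective x.down
    exact ⟨⟨a⟩, ULift.ext _ _ ha⟩

theorem hom_ext_F {X : Scheme.{u}} (a b : X ⟶ Spec (CommRingCat.of (ULift.{u} (ZMod p)))) : a = b := by
  rw [← cancel_mono (iF p)]; exact specULiftZIsTerminal.hom_ext _ _

theorem exists_model (X : Scheme.{u})
    [FrobSch.IsCharP X p] [CompactSpace X] [QuasiSeparatedSpace X] [hX : FrobSch.IsPerfect X p]
    (hc : ∀ (J : Type u) [SmallCategory J] [IsCofiltered J] (F : J ⥤ Scheme.{u})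
      [∀ j, FrobSch.IsCharP (F.obj j) p] (c : Cone F) [FrobSch.IsCharP c.pt p], IsLimit c →
      (∀ ⦃i j : J⦄ (a : i ⟶ j), IsAffineHom (F.map a)) →
      (∀ j, FrobSch.IsPerfect (F.obj j) p ∧ CompactSpace (F.obj j) ∧ QuasiSeparatedSpace (F.obj j)) →
      FrobSch.IsPerfect c.pt p → CompactSpace c.pt → QuasiSeparatedSpace c.pt →
      (∀ g : c.pt ⟶ X, ∃ (j : J) (gj : F.obj j ⟶ X), c.π.app j ≫ gj = g) ∧
      (∀ (j : J) (g g' : F.obj j ⟶ X), c.π.app j ≫ g = c.π.app j ≫ g' →
        ∃ (k : J) (a : k ⟶ j), F.map a ≫ g = F.map a ≫ g')) :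
    ∃ (X0 : Scheme.{u}) (s : X0 ⟶ Spec (CommRingCat.of (ULift.{u} (ZMod p)))) (_ : LocallyOfFinitePresentation s)
      (_ : CompactSpace X0) (_ : QuasiSeparatedSpace X0) (π : X ⟶ X0), FrobSch.IsPerfection π p := by
  obtain ⟨J, _, _, _, D, π, ⟨hlim⟩, haff, hD⟩ := ApproxZLib.exists_absolute_approximation X
  obtain ⟨sX⟩ := exists_toSpec p X
  -- reduction mod p
  let F0 := Spec (CommRingCat.of (ULift.{u} (ZMod p)))
  let tD : ∀ j, D.obj j ⟶ Spec (CommRingCat.of (ULift.{u} ℤ)) := fun j => specULiftZIsTerminal.from (D.obj j)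
  haveI : IsNoetherianRing (ULift.{u} (ZMod p)) := inferInstance
  let Y : Jᵒᵖ → Scheme.{u} := fun j => pullback (tD j) (iF p)
  let sY : ∀ j, Y j ⟶ F0 := fun j => pullback.snd (tD j) (iF p)
  haveI : ∀ j, LocallyOfFiniteType (sY j) := fun j =>
    haveI := (hD j).2.2
    MorphismProperty.pullback_snd (P := @LocallyOfFiniteType) _ _ inferInstance
  haveI : ∀ j, IsLocallyNoetherian (Y j) := fun j => LocallyOfFiniteType.isLocallyNoetherian (sY j)
  haveI : ∀ j, CompactSpace (Y j) := fun j =>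
    haveI := (hD j).1
    QuasiCompact.compactSpace_of_compactSpace (pullback.fst (tD j) (iF p))
  haveI hF0 : FrobSch.IsCharP F0 p := by
    haveI : CharP (ULift.{u} (ZMod p)) p := inferInstance
    infer_instance
  haveI : ∀ j, FrobSch.IsCharP (Y j) p := fun j => FrobSch.IsCharP.of_hom (sY j) p
  let mY : ∀ {i j : Jᵒᵖ} (a : i ⟶ j), Y i ⟶ Y j := fun {i j} a =>
    pullback.lift (pullback.fst (tD i) (iF p) ≫ D.map a) (sY i) (specULiftZIsTerminal.hom_ext _ _)
  have hmY : ∀ {i j : Jᵒᵖ} (a : i ⟶ j), IsAffineHom (mY a) := fun {i j} a => by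
    haveI := haff _ _ a
    haveI : IsAffineHom (mY a ≫ pullback.fst (tD j) (iF p)) := by
      rw [pullback.lift_fst]; infer_instance
    exact IsAffineHom.of_comp _ (pullback.fst (tD j) (iF p))
  -- perfections
  let P : ∀ j, Perf p (Y j) := fun j => (nonempty_perf p (Y j)).some
  haveI hPc : ∀ j, FrobSch.IsCharP (P j).P p := fun j => (P j).charP
  have hP : ∀ j, FrobSch.IsPerfect (P j).P p := fun j => (P j).isPerfection.1
  choose mP hmP using fun (i j : Jᵒᵖ) (a : i ⟶ j) => ((P j).isPerfection.2 _ (hP i)).2 ((P i).π 0 ≫ mY a)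
  let F : Jᵒᵖ ⥤ Scheme.{u} :=
    { obj := fun j => (P j).P
      map := fun {i j} a => mP i j a
      map_id := fun j => ((P j).isPerfection.2 _ (hP j)).1 (by
        show mP j j (𝟙 j) ≫ (P j).π 0 = 𝟙 _ ≫ (P j).π 0
        refine (hmP j j (𝟙 j)).trans ?_
        rw [show mY (𝟙 j) = 𝟙 (Y j) from pullback.hom_ext (by simp [mY]) (hom_ext_F p _ _), Category.comp_id, Category.id_comp])
      map_comp := fun {i j k} a b => ((P k).isPerfection.2 _ (hP i)).1 (by
        show mP i k (a ≫ b) ≫ (P k).π 0 = (mP i j a ≫ mP j k b) ≫ (P k).π 0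
        have h1 : mP j k b ≫ (P k).π 0 = (P j).π 0 ≫ mY b := hmP j k b
        have h2 : mP i j a ≫ (P j).π 0 = (P i).π 0 ≫ mY a := hmP i j a
        refine (hmP i k (a ≫ b)).trans ?_
        rw [Category.assoc, h1, reassoc_of% h2]
        congr 1
        exact pullback.hom_ext (by simp [mY]) (hom_ext_F p _ _)) }
  haveI : ∀ j, FrobSch.IsCharP (F.obj j) p := hPc
  -- the cone from X
  let q : ∀ j, X ⟶ Y j := fun j => pullback.lift (π.app j) sX (specULiftZIsTerminal.hom_ext _ _)
  have hq : ∀ {i j : Jᵒᵖ} (a : i ⟶ j), q i ≫ mY a = q j := fun {i j} a => by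
    refine pullback.hom_ext ?_ (hom_ext_F p _ _)
    simp only [q, mY, Category.assoc, pullback.lift_fst, pullback.lift_fst_assoc]
    exact (π.naturality a).symm.trans (Category.id_comp _)
  choose w hw using fun j => ((P j).isPerfection.2 X hX).2 (q j)
  let cF : Cone F :=
    { pt := X
      π :=
        { app := w
          naturality := fun i j a => ((P j).isPerfection.2 X hX).1 (by
            show (𝟙 X ≫ w j) ≫ (P j).π 0 = (w i ≫ mP i j a) ≫ (P j).π 0
            have h1 : mP i j a ≫ (P j).π 0 = (P i).π 0 ≫ mY a := hmP i j a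
            have h2 : w i ≫ (P i).π 0 = q i := hw i
            have h3 : w j ≫ (P j).π 0 = q j := hw j
            rw [Category.id_comp, Category.assoc, h1, reassoc_of% h2, h3, hq]) } }
  have hlimF : IsLimit cF := by
    haveI := hX
    -- maps to `X` from compatible families
    have hfam : ∀ {T : Scheme.{u}} (g : ∀ j, T ⟶ Y j), (∀ {i j : Jᵒᵖ} (a : i ⟶ j), g i ≫ mY a = g j) →
        ∃ m : T ⟶ X, ∀ j, m ≫ q j = g j := fun {T} g hg => by
      let s : Cone D :=
        { pt := T
          π :=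
            { app := fun j => g j ≫ pullback.fst (tD j) (iF p)
              naturality := fun i j a => by
                refine (Category.id_comp _).trans ?_
                rw [← hg a]
                simp only [mY, Category.assoc, pullback.lift_fst] } }
      refine ⟨hlim.lift s, fun j => pullback.hom_ext ?_ (hom_ext_F p _ _)⟩
      rw [Category.assoc, pullback.lift_fst]
      exact hlim.fac s j
    have huniq : ∀ {T : Scheme.{u}} (m m' : T ⟶ X), (∀ j, m ≫ q j = m' ≫ q j) → m = m' := fun m m' h =>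
      hlim.hom_ext fun j => by
        have := congrArg (· ≫ pullback.fst (tD j) (iF p)) (h j)
        simpa [q] using this
    haveI : ∀ n, IsIso (fp p X n) := isIso_fp p X
    -- all projections
    have hwn : ∀ j n, w j ≫ (P j).π n = inv (fp p X n) ≫ q j := fun j n => by
      rw [IsIso.eq_inv_comp, ← Category.assoc, fp_comp p X (w j), Category.assoc, fp_comp p (P j).P ((P j).π n)]
      exact (congrArg (w j ≫ ·) (π_fp' p (P j) n)).trans (hw j)
    have hPm : ∀ {i j : Jᵒᵖ} (a : i ⟶ j) n, F.map a ≫ (P j).π n = (P i).π n ≫ mY a := fun {i j} a n => by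
      haveI := hP i
      haveI := isIso_fp p (P i).P n
      rw [← cancel_epi (fp p (P i).P n), ← Category.assoc, fp_comp p (P i).P (F.map a), Category.assoc,
        fp_comp p (P j).P ((P j).π n), π_fp' p (P j) n, ← Category.assoc, fp_comp p (P i).P ((P i).π n), π_fp' p (P i) n]
      exact hmP i j a
    have hgn : ∀ (s : Cone F) n, ∃ m : s.pt ⟶ X, ∀ j, m ≫ q j = s.π.app j ≫ (P j).π n := fun s n =>
      hfam (fun j => s.π.app j ≫ (P j).π n) fun {i j} a => by
        rw [Category.assoc, ← hPm a n, ← Category.assoc, s.w a]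
    choose m hm using hgn
    have hmn : ∀ (s : Cone F) n, m s n ≫ fp p X n = m s 0 := fun s n => huniq _ _ fun j => by
      rw [hm, Category.assoc, fp_comp p X (q j), ← Category.assoc, hm, Category.assoc]
      exact congrArg (s.π.app j ≫ ·) (π_fp' p (P j) n)
    refine { lift := fun s => m s 0, fac := fun s j => (P j).hom_ext _ _ fun n => ?_, uniq := fun s l hl => ?_ }
    · show (m s 0 ≫ w j) ≫ (P j).π n = s.π.app j ≫ (P j).π n
      rw [Category.assoc, hwn, ← hm s n j, ← hmn s n, Category.assoc, IsIso.hom_inv_id_assoc]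
    · refine huniq _ _ fun j => ?_
      rw [hm, ← hl j]
      show _ = (l ≫ w j) ≫ (P j).π 0
      rw [Category.assoc]
      exact (congrArg (l ≫ ·) (hw j)).symm
  have hFaff : ∀ ⦃i j : Jᵒᵖ⦄ (a : i ⟶ j), IsAffineHom (F.map a) := fun i j a => by
    haveI := (P i).affine 0
    haveI := (P j).affine 0
    haveI := hmY a
    haveI : IsAffineHom (F.map a ≫ (P j).π 0) := by
      rw [show F.map a ≫ (P j).π 0 = (P i).π 0 ≫ mY a from hmP i j a]; infer_instance
    exact IsAffineHom.of_comp _ ((P j).π 0)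
  obtain ⟨h1, -⟩ := hc Jᵒᵖ F cF hlimF hFaff (fun j => ⟨hP j, by
      haveI := (P j).affine 0
      exact QuasiCompact.compactSpace_of_compactSpace ((P j).π 0), by
      haveI := (P j).affine 0
      exact quasiSeparatedSpace_of_quasiSeparated ((P j).π 0)⟩) hX inferInstance inferInstance
  obtain ⟨j, r, hr⟩ := h1 (𝟙 X)
  have hr : w j ≫ r = 𝟙 X := hr
  let e := r ≫ w j ≫ (P j).π 0
  obtain ⟨n, h, hh⟩ := (P j).descend (sY j) (sY j) (hom_ext_F p _ _) inferInstance inferInstance inferInstance e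
    (hom_ext_F p _ _)
  -- the equalizer
  let a₁ : Y j ⟶ pullback (sY j) (sY j) := pullback.lift h (fp p (Y j) n) (hom_ext_F p _ _)
  let X0 := pullback (pullback.diagonal (sY j)) a₁
  let i0 : X0 ⟶ Y j := pullback.snd (pullback.diagonal (sY j)) a₁
  haveI : QuasiSeparated (sY j) := inferInstance
  haveI : QuasiCompact i0 := MorphismProperty.pullback_snd (P := @QuasiCompact) _ _ inferInstance
  haveI : LocallyOfFiniteType i0 := MorphismProperty.pullback_snd (P := @LocallyOfFiniteType) _ _ inferInstance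
  haveI : IsLocallyNoetherian X0 := LocallyOfFiniteType.isLocallyNoetherian i0
  haveI : Mono i0 := inferInstance
  have hh0 : ∀ {T : Scheme.{u}} (g : T ⟶ Y j), g ≫ h = g ≫ fp p (Y j) n →
      ∃ g' : T ⟶ X0, g' ≫ i0 = g := fun {T} g hg =>
    ⟨pullback.lift (g ≫ h) g (pullback.hom_ext
      (by simp [a₁]) (by simp [a₁, hg])), pullback.lift_snd _ _ _⟩
  have hi0 : i0 ≫ h = i0 ≫ fp p (Y j) n := by
    have h2 := pullback.condition (f := pullback.diagonal (sY j)) (g := a₁)
    have e1 := congrArg (· ≫ pullback.fst (sY j) (sY j)) h2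
    have e2 := congrArg (· ≫ pullback.snd (sY j) (sY j)) h2
    simp [a₁] at e1 e2
    exact e1.symm.trans e2
  -- perfect points of the equalizer
  have key : ∀ {T : Scheme.{u}} [FrobSch.IsCharP T p], FrobSch.IsPerfect T p → ∀ g : T ⟶ (P j).P,
      ((g ≫ (P j).π 0) ≫ h = (g ≫ (P j).π 0) ≫ fp p (Y j) n ↔ g ≫ r ≫ w j = g) := fun {T} _ hT g => by
    haveI := hT
    haveI := isIso_fp p T n
    have h1 : g ≫ (P j).π n ≫ h = g ≫ r ≫ w j ≫ (P j).π 0 := congrArg (g ≫ ·) hh
    have h2 : fp p T n ≫ g ≫ (P j).π n = g ≫ (P j).π 0 := by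
      rw [← Category.assoc, fp_comp p T g, Category.assoc]
      exact congrArg (g ≫ ·) ((fp_comp p (P j).P ((P j).π n) n).trans (π_fp' p (P j) n))
    have h3 : fp p T n ≫ g ≫ r ≫ w j ≫ (P j).π 0 = (g ≫ (P j).π 0) ≫ h := by
      rw [← h1, ← h2, Category.assoc, Category.assoc]
    have h4 : fp p T n ≫ g ≫ (P j).π 0 = (g ≫ (P j).π 0) ≫ fp p (Y j) n := fp_comp p T _ n
    constructor
    · intro hg
      refine ((P j).isPerfection.2 T hT).1 ?_
      show (g ≫ r ≫ w j) ≫ (P j).π 0 = g ≫ (P j).π 0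
      rw [← cancel_epi (fp p T n), h4, ← hg, ← h3, Category.assoc, Category.assoc]
    · intro hg
      rw [← h3, ← h4]
      have := congrArg (fun t => fp p T n ≫ t ≫ (P j).π 0) hg
      simpa [Category.assoc] using this
  haveI := hX
  obtain ⟨π0, hπ0⟩ := hh0 (q j) (by
    have := (key hX (w j)).2 (by rw [← Category.assoc, hr, Category.id_comp])
    rwa [show w j ≫ (P j).π 0 = q j from hw j] at this)
  haveI : LocallyOfFiniteType (i0 ≫ sY j) := inferInstance
  refine ⟨X0, i0 ≫ sY j, inferInstance, QuasiCompact.compactSpace_of_compactSpace i0, inferInstance, π0, hX,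
    fun T _ hT => ⟨fun g g' hg => ?_, fun g => ?_⟩⟩
  · have h1 : g ≫ q j = g' ≫ q j := by
      rw [← hπ0, ← Category.assoc, ← Category.assoc]; exact congrArg (· ≫ i0) hg
    have h2 : g ≫ w j = g' ≫ w j := ((P j).isPerfection.2 T hT).1 (by
      show (g ≫ w j) ≫ (P j).π 0 = (g' ≫ w j) ≫ (P j).π 0
      rw [Category.assoc, Category.assoc, show w j ≫ (P j).π 0 = q j from hw j, h1])
    simpa [hr] using congrArg (· ≫ r) h2
  · obtain ⟨gl, hgl⟩ := ((P j).isPerfection.2 T hT).2 (g ≫ i0)
    have hgl : gl ≫ (P j).π 0 = g ≫ i0 := hgl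
    have h1 := (key hT gl).1 (by rw [hgl, Category.assoc, Category.assoc, hi0])
    refine ⟨gl ≫ r, ?_⟩
    show (gl ≫ r) ≫ π0 = g
    rw [← cancel_mono i0, Category.assoc, hπ0, ← hgl, Category.assoc, ← show w j ≫ (P j).π 0 = q j from hw j,
      ← Category.assoc r, ← Category.assoc gl, h1]

end Groth.Agent.PerfModelLib
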