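import Groth.Agent.AffLim.Existence
import Groth.Prelude.Def_Frob

/-! The perfection of a scheme as the limit of the Frobenius tower. -/

set_option autoImplicit false
set_option backward.isDefEq.respectTransparency false
set_option backward.defeqAttrib.useBackward true
set_option linter.style.haveILetI false
set_option linter.unusedSectionVars false

universe u

open CategoryTheory CategoryTheory.Limits AlgebraicGeometry Opposite

noncomputable section

namespace Groth.Agent.PerfModelLib

variable (p : ℕ) [Fact p.Prime]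

section

variable (X : Scheme.{u}) [FrobSch.IsCharP X p]

/-- Iterated Frobenius. -/
def fp : ℕ → (X ⟶ X)
  | 0 => 𝟙 X
  | n + 1 => fp n ≫ FrobSch.frob X p

theorem fp_add (m n : ℕ) : fp p X (m + n) = fp p X m ≫ fp p X n := by
  induction n with
  | zero => exact (Category.comp_id _).symm
  | succ n ih => show fp p X (m + n) ≫ _ = fp p X m ≫ fp p X n ≫ _; rw [ih, Category.assoc]

theorem fp_one : fp p X 1 = FrobSch.frob X p := Category.id_comp _

theorem fp_succ' (n : ℕ) : fp p X (n + 1) = FrobSch.frob X p ≫ fp p X n := by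
  rw [Nat.add_comm, fp_add, fp_one]

instance isAffineHom_frob : IsAffineHom (FrobSch.frob X p) := ⟨fun U hU => by simpa using hU⟩

instance isAffineHom_fp : ∀ n, IsAffineHom (fp p X n)
  | 0 => inferInstanceAs (IsAffineHom (𝟙 X))
  | n + 1 => haveI := isAffineHom_fp n; inferInstanceAs (IsAffineHom (fp p X n ≫ FrobSch.frob X p))

theorem isIso_fp [h : IsIso (FrobSch.frob X p)] : ∀ n, IsIso (fp p X n)
  | 0 => inferInstanceAs (IsIso (𝟙 X))
  | n + 1 => haveI := isIso_fp n; inferInstanceAs (IsIso (fp p X n ≫ FrobSch.frob X p))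

theorem fp_comp {Y : Scheme.{u}} [FrobSch.IsCharP Y p] (f : X ⟶ Y) : ∀ n, fp p X n ≫ f = f ≫ fp p Y n
  | 0 => (Category.id_comp f).trans (Category.comp_id f).symm
  | n + 1 => by
    show (fp p X n ≫ _) ≫ f = f ≫ fp p Y n ≫ _
    rw [Category.assoc, FrobSch.frob_comp, ← Category.assoc, fp_comp f n, Category.assoc]

/-- The Frobenius tower. -/
def tower : ℕᵒᵖ ⥤ Scheme.{u} where
  obj _ := X
  map {a b} _ := fp p X (a.unop - b.unop)
  map_id a := by rw [Nat.sub_self]; rfl
  map_comp {a b c} f g := by
    have h1 : b.unop ≤ a.unop := f.unop.le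
    have h2 : c.unop ≤ b.unop := g.unop.le
    rw [← fp_add]
    congr 1
    omega

theorem tower_map_succ (n : ℕ) (f : op (n + 1) ⟶ op n) : (tower p X).map f = FrobSch.frob X p := by
  show fp p X (n + 1 - n) = _
  rw [Nat.add_sub_cancel_left, fp_one]

end

/-- The perfection, with the projections it comes with. -/
structure Perf (X : Scheme.{u}) [FrobSch.IsCharP X p] where
  P : Scheme.{u}
  charP : FrobSch.IsCharP P p
  π : (n : ℕ) → (P ⟶ X)
  affine : ∀ n, IsAffineHom (π n)
  step : ∀ n, π (n + 1) ≫ FrobSch.frob X p = π n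
  hom_ext : ∀ {T : Scheme.{u}} (a b : T ⟶ P), (∀ n, a ≫ π n = b ≫ π n) → a = b
  isPerfection : haveI := charP; FrobSch.IsPerfection (π 0) p
  descend : ∀ {B Z : Scheme.{u}} (sB : X ⟶ B) (sZ : Z ⟶ B), FrobSch.frob X p ≫ sB = sB →
    LocallyOfFinitePresentation sZ → CompactSpace X → QuasiSeparatedSpace X → ∀ a : P ⟶ Z, a ≫ sZ = π 0 ≫ sB →
    ∃ (n : ℕ) (g : X ⟶ Z), π n ≫ g = a

theorem π_fp' {X : Scheme.{u}} [FrobSch.IsCharP X p] (Q : Perf p X) : ∀ n, Q.π n ≫ fp p X n = Q.π 0
  | 0 => Category.comp_id _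
  | n + 1 => by rw [fp_succ', ← Category.assoc, Q.step, π_fp' Q n]

theorem nonempty_perf (X : Scheme.{u}) [FrobSch.IsCharP X p] : Nonempty (Perf p X) := by
  let F : ULift.{u} ℕ ⥤ ℕ := Monotone.functor (f := fun n : ULift.{u} ℕ => n.down) fun _ _ h => h
  let D : (ULift.{u} ℕ)ᵒᵖ ⥤ Scheme.{u} := F.op ⋙ tower p X
  haveI : ∀ {i j : (ULift.{u} ℕ)ᵒᵖ} (a : i ⟶ j), IsAffineHom (D.map a) := fun a =>
    inferInstanceAs (IsAffineHom (fp p X _))
  haveI : IsDirected (ULift.{u} ℕ) (· ≤ ·) := ⟨fun a b => ⟨⟨max a.down b.down⟩, le_max_left a.down b.down, le_max_right a.down b.down⟩⟩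
  obtain ⟨c, hc, haff⟩ := AffLim.exists_isLimit D
  let π : ℕ → (c.pt ⟶ X) := fun n => c.π.app (op ⟨n⟩)
  haveI hP : FrobSch.IsCharP c.pt p := FrobSch.IsCharP.of_hom (π 0) p
  have hstep : ∀ n, π (n + 1) ≫ FrobSch.frob X p = π n := fun n => by
    have h : (ULift.up n : ULift.{u} ℕ) ≤ ULift.up (n + 1) := Nat.le_succ n
    have h1 := c.w (homOfLE h).op
    rwa [show D.map (homOfLE h).op = FrobSch.frob X p from tower_map_succ p X n (homOfLE (Nat.le_succ n)).op] at h1
  have hpow : ∀ n m, π (n + m) ≫ fp p X m = π n := fun n m => by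
    induction m with
    | zero => exact Category.comp_id _
    | succ m ih => rw [fp_succ', ← Category.assoc, ← Nat.add_assoc, hstep, ih]
  have hext : ∀ {T : Scheme.{u}} (a b : T ⟶ c.pt), (∀ n, a ≫ π n = b ≫ π n) → a = b :=
    fun a b h => hc.hom_ext fun j => h j.unop.down
  -- the shift
  let sh : Cone D :=
    { pt := c.pt
      π :=
        { app := fun j => π (j.unop.down + 1)
          naturality := fun j k f => by
            refine (Category.id_comp _).trans ?_
            have hle : k.unop.down ≤ j.unop.down := f.unop.le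
            show π (k.unop.down + 1) = π (j.unop.down + 1) ≫ fp p X (j.unop.down - k.unop.down)
            rw [show j.unop.down + 1 = k.unop.down + 1 + (j.unop.down - k.unop.down) by omega, hpow] } }
  have hs : ∀ n, hc.lift sh ≫ π n = π (n + 1) := fun n => hc.fac sh (op ⟨n⟩)
  have hperf : FrobSch.IsPerfect c.pt p := by
    refine ⟨hc.lift sh, hext _ _ fun n => ?_, hext _ _ fun n => ?_⟩
    · rw [Category.assoc, hs, Category.id_comp, FrobSch.frob_comp, hstep]
    · rw [Category.assoc, Category.id_comp, FrobSch.frob_comp, reassoc_of% (hs n), hstep]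
  refine ⟨⟨c.pt, hP, π, fun n => haff _, hstep, hext, ⟨hperf, fun Y _ hY => ⟨fun a b hab => ?_, fun g => ?_⟩⟩, ?_⟩⟩
  · haveI := hY
    refine hext _ _ fun n => ?_
    haveI := isIso_fp p Y n
    rw [← cancel_epi (fp p Y n), ← Category.assoc, ← Category.assoc]
    have e : ∀ t : Y ⟶ c.pt, (fp p Y n ≫ t) ≫ π n = t ≫ π 0 := fun t => by
      rw [fp_comp p Y t, Category.assoc, fp_comp p c.pt (π n)]
      have := hpow 0 n
      rw [Nat.zero_add] at this
      rw [this]
    rw [e a, e b]
    exact hab
  · haveI := hY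
    haveI : ∀ n, IsIso (fp p Y n) := isIso_fp p Y
    let cY : Cone D :=
      { pt := Y
        π :=
          { app := fun j => inv (fp p Y j.unop.down) ≫ g
            naturality := fun j k f => by
              refine (Category.id_comp _).trans ?_
              have hle : k.unop.down ≤ j.unop.down := f.unop.le
              show inv (fp p Y k.unop.down) ≫ g = (inv (fp p Y j.unop.down) ≫ g) ≫ fp p X (j.unop.down - k.unop.down)
              rw [IsIso.inv_comp_eq, Category.assoc, ← fp_comp p Y g, ← Category.assoc, ← Category.assoc]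
              refine (Category.id_comp g).symm.trans (congrArg (· ≫ g) ?_)
              rw [← cancel_epi (fp p Y (j.unop.down - k.unop.down)), Category.comp_id, ← Category.assoc, ← Category.assoc,
                ← fp_add, Nat.sub_add_cancel hle, IsIso.hom_inv_id, Category.id_comp] } }
    refine ⟨hc.lift cY, ?_⟩
    show hc.lift cY ≫ π 0 = g
    refine (hc.fac cY (op ⟨0⟩)).trans ?_
    show inv (fp p Y 0) ≫ g = g
    rw [IsIso.inv_comp_eq]; exact (Category.id_comp g).symm
  · intro B Z sB sZ hfrob hlfp hcpt hqs a ha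
    have hfp : ∀ m, fp p X m ≫ sB = sB := fun m => by
      induction m with
      | zero => exact Category.id_comp _
      | succ m ih => show (fp p X m ≫ _) ≫ sB = sB; rw [Category.assoc, hfrob, ih]
    let t : D ⟶ (Functor.const _).obj B :=
      { app := fun _ => sB
        naturality := fun i j f => (hfp _).trans (Category.comp_id _).symm }
    haveI : ∀ i, CompactSpace (D.obj i) := fun _ => hcpt
    haveI : ∀ i, QuasiSeparatedSpace (D.obj i) := fun _ => hqs
    haveI := hlfp
    obtain ⟨i, g, hg, -⟩ := Scheme.exists_π_app_comp_eq_of_locallyOfFinitePresentation D t sZ c hc a (by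
      ext j
      show c.π.app j ≫ sB = a ≫ sZ
      rw [ha]
      have := hpow 0 j.unop.down
      rw [Nat.zero_add] at this
      rw [← this, Category.assoc, hfp]
      )
    exact ⟨i.unop.down, g, hg⟩

end Groth.Agent.PerfModelLib
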